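import Groth.Agent.Lib.LineFlag12.Basic
import Groth.Agent.Lib.HypCI12.Dim
import Groth.Agent.Lib.OmegaPn27.Proj
import Groth.Agent.Lib.Dim.QuasiFinite
import Groth.Agent.Lib.OX.LocFreeTensor

/-!
# Negative twists of a bundle trivial on a line have no sections
-/

set_option autoImplicit false
set_option linter.all false
set_option maxHeartbeats 1000000
set_option backward.isDefEq.respectTransparency false

universe u

open CategoryTheory CategoryTheory.Limits AlgebraicGeometry TopologicalSpace Opposite
open GrothLib.CMReg (Ft)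
open GrothLib.ASBun21

noncomputable section

namespace GrothLib.LineFlag12

variable {k : Type u} [Field k]

theorem dim_projSpace (n : ℕ) : topologicalKrullDim ↥(CohB1.ProjSpace n k) = (n : WithBot ℕ∞) := by
  let G0 : ∀ l : Fin 0, LefPen.Form n k ((fun l => l.elim0 : Fin 0 → ℕ) l) := fun l => l.elim0
  have hbot : LefPen.ciIdeal G0 = ⊥ := le_bot_iff.1 (iSup_le fun l => l.elim0)
  haveI : IsIso (LefPen.ciIdeal G0).subschemeι := (Scheme.isIso_subschemeι_iff_eq_bot _).2 hbot
  haveI := OmegaPn27.smoothOfRelativeDimension_toSpec n k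
  haveI : SmoothOfRelativeDimension (0 + n)
      ((LefPen.ciIdeal G0).subschemeι ≫ CohB1.ProjSpace.toSpec n k) := inferInstance
  have e := HypCI12.dim_of_smooth G0 (Nat.zero_le _) (fun l => l.elim0) (0 + n)
  rw [← (Scheme.homeoOfIso (asIso (LefPen.ciIdeal G0).subschemeι)).isHomeomorph.topologicalKrullDim_eq, e, zero_add]

theorem subsingleton_free (n : ℕ) (hn : 1 ≤ n) {d : ℤ} (hd : d < 0) :
    Subsingleton (Coh.HH (CohB1.ProjSpace n k) (Ft (FlatMod.freeMod (CohB1.ProjSpace n k) 2) d) 0) := by
  refine CMReg.subsingleton_of_iso (CMReg.tensorSigmaIso _ (Twist.twistProjSpace n k d)).symm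
    (CMReg.subsingleton_HH_sigma _ fun l => ?_)
  have h := ProjCohom.subsingleton_HH (n := n) (R := k) (d := d) (q := 0) (fun h => by omega) (fun h => by omega)
  exact CMReg.subsingleton_of_iso (OX.tensorUnitLeftIso (Twist.twistProjSpace n k d)).symm h

theorem subsingleton_H0 : ∀ (n : ℕ) (E : (CohB1.ProjSpace n k).Modules), FlatMod.IsFinLocFreeOfRank 2 E →
    ∀ (i : CohB1.ProjSpace 1 k ⟶ CohB1.ProjSpace n k), IsClosedImmersion i →
    i ≫ CohB1.ProjSpace.toSpec n k = CohB1.ProjSpace.toSpec 1 k →
    Nonempty ((Scheme.Modules.pullback i).obj (Twist.twistProjSpace n k 1) ≅ Twist.twistProjSpace 1 k 1) →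
    Nonempty ((Scheme.Modules.pullback i).obj E ≅ FlatMod.freeMod (CohB1.ProjSpace 1 k) 2) →
    ∀ d : ℤ, d < 0 → Subsingleton (Coh.HH (CohB1.ProjSpace n k) (Ft E d) 0) := by
  intro n
  induction n with
  | zero =>
    intro E _ i hic _ _ _ d _
    exfalso
    haveI := hic
    have h := (i.isClosedEmbedding.isInducing).topologicalKrullDim_le
    rw [dim_projSpace, dim_projSpace] at h
    exact absurd (by exact_mod_cast h : (1 : ℕ) ≤ 0) (by omega)
  | succ n ih =>
    intro E hE i hic hi hO htriv d hd
    haveI := hic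
    rcases Nat.eq_zero_or_pos n with rfl | hn
    · haveI : IsIntegral (CohB1.ProjSpace (0 + 1) k) := ProjDim.isIntegral_proj k (0 + 1)
      let Z : Set ↥(CohB1.ProjSpace (0 + 1) k) := Set.range i
      have hdZ : topologicalKrullDim Z = ((1 : ℕ) : WithBot ℕ∞) := by
        rw [← (i.isClosedEmbedding.isEmbedding.toHomeomorph).isHomeomorph.topologicalKrullDim_eq, dim_projSpace]
      have hZ : Z = Set.univ := Dim.eq_univ_of_dim_le i.isClosedEmbedding.isClosed_range
        (by rw [hdZ, dim_projSpace]) hdZ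
      haveI : Surjective i := ⟨fun y => (hZ ▸ Set.mem_univ y : y ∈ Z)⟩
      haveI : IsIso i := isIso_of_isClosedImmersion_of_surjective i
      obtain ⟨et⟩ := htriv
      let eE : E ≅ FlatMod.freeMod (CohB1.ProjSpace (0 + 1) k) 2 :=
        (Scheme.Modules.pullbackId _).symm.app E ≪≫ (Scheme.Modules.pullbackCongr (IsIso.inv_hom_id i).symm).app E ≪≫
          ((Scheme.Modules.pullbackComp (inv i) i).app E).symm ≪≫ (Scheme.Modules.pullback (inv i)).mapIso et ≪≫
          OX.pullFreeModIso (inv i) 2
      exact CMReg.subsingleton_of_iso ((CMReg.ftFun d).mapIso eE).symm (subsingleton_free (0 + 1) le_rfl hd)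
    obtain ⟨j, hjc, K, ι, w, hS, ⟨eK⟩, hj, hej, i', hi'c, hfac⟩ := exists_hyperplane_through le_rfl hn i hi hO
    haveI := hjc
    have hi' : i' ≫ CohB1.ProjSpace.toSpec n k = CohB1.ProjSpace.toSpec 1 k := by
      rw [← hj, ← Category.assoc, hfac, hi]
    let pc : ∀ M, (Scheme.Modules.pullback i').obj ((Scheme.Modules.pullback j).obj M) ≅
        (Scheme.Modules.pullback i).obj M := fun M =>
      (Scheme.Modules.pullbackComp i' j).app M ≪≫ (Scheme.Modules.pullbackCongr hfac).app M
    have hO' : Nonempty ((Scheme.Modules.pullback i').obj (Twist.twistProjSpace n k 1) ≅ Twist.twistProjSpace 1 k 1) :=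
      ⟨(Scheme.Modules.pullback i').mapIso hej.some.symm ≪≫ pc _ ≪≫ hO.some⟩
    have ht' : Nonempty ((Scheme.Modules.pullback i').obj ((Scheme.Modules.pullback j).obj E) ≅
        FlatMod.freeMod (CohB1.ProjSpace 1 k) 2) := ⟨pc E ≪≫ htriv.some⟩
    have hH := ih _ (OX.isFinLocFreeOfRank_pullback j hE) i' hi'c hi' hO' ht'
    have hEl := FinCov.isFinLocFree_of_rank hE
    obtain ⟨P, hP⟩ := Horrocks.subsingleton_H0_neg (n := n + 1) (by omega) hE
    -- climb from very negative twists
    have main : ∀ (m : ℕ) (e : ℤ), e < 0 → e ≤ -(P : ℤ) + m →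
        Subsingleton (Coh.HH (CohB1.ProjSpace (n + 1) k) (Ft E e) 0) := by
      intro m
      induction m with
      | zero => intro e _ he; exact hP e (by simpa using he)
      | succ m ihm =>
        intro e he0 he
        haveI := hH e he0
        let g : CohB1.tensorMod K (Twist.twistProjSpace (n + 1) k e) ≅ Twist.twistProjSpace (n + 1) k (e - 1) :=
          Ample.LineData.tensorModMapIso eK (Iso.refl _) ≪≫ Horrocks.downIso (n + 1) k e
        obtain ⟨gY⟩ := CMReg.nonempty_pullback_twist hej e
        obtain ⟨e3⟩ := HorrocksGen.nonempty_thirdTerm j ι w hEl (Horrocks.locFree_twist e) gY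
        let F := CohB1.tensorMod ((Scheme.Modules.pullback j).obj E) (Twist.twistProjSpace n k e)
        haveI : F.IsQuasicoherent := (CMReg.isCoh_Ft (Euler.isCoh_of_isFinLocFree
          (FinCov.isFinLocFree_of_rank (OX.isFinLocFreeOfRank_pullback j hE))) e).1
        obtain ⟨q⟩ := Cohom.nonempty_HH_equiv_pushforward j F 0
        haveI : Subsingleton (Coh.HH (CohB1.ProjSpace n k) F 0) := hH e he0
        have h3 := CMReg.subsingleton_of_iso e3.symm q.symm.toEquiv.subsingleton
        have h1 := CMReg.subsingleton_of_iso (HorrocksGen.firstTerm j ι w E _ _ g).symm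
          (ihm (e - 1) (by omega) (by push_cast at he ⊢; omega))
        exact CMReg.subsingleton_of_iso (HorrocksGen.secondTerm j ι w E (Twist.twistProjSpace (n + 1) k e))
          (CMReg.subsingleton_X₂ (HorrocksGen.twSeq_shortExact j ι w hS hEl (Horrocks.locFree_twist e)) h1 h3)
    exact main (d + P).toNat d hd (by omega)

end GrothLib.LineFlag12
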