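import Groth.Agent.S7676
import Groth.Agent.Lib.CMReg.StructureRegular
import Groth.Agent.Lib.CI20.Hypersurface
import Groth.Agent.Lib.CI20.Seq
import Groth.Agent.Lib.CI20.Step
import Groth.Agent.Lib.Jets.ZeroIdeal
import Groth.Agent.Lib.VA.UnitGen
import Groth.Agent.Lib.FinCov.FrameFree
import Groth.Agent.Lib.ASBun21.Horrocks

/-!
# Hyperplanes through a linearly embedded projective space
-/

set_option autoImplicit false
set_option linter.all false
set_option maxHeartbeats 1000000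
set_option backward.isDefEq.respectTransparency false

universe u

open CategoryTheory CategoryTheory.Limits AlgebraicGeometry TopologicalSpace Opposite
open GrothLib.Cohom (hhMap)
open GrothLib.InvExt (mres IsGen)

noncomputable section

namespace GrothLib.LineFlag12

variable {k : Type u} [Field k]

/-- A section of `O(1)` which dies on a linear subspace. -/
theorem exists_section {m N : ℕ} (hm : 1 ≤ m) (hN : m < N) (i : CohB1.ProjSpace m k ⟶ CohB1.ProjSpace N k) [IsClosedImmersion i]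
    (hi : i ≫ CohB1.ProjSpace.toSpec N k = CohB1.ProjSpace.toSpec m k)
    (hO : Nonempty ((Scheme.Modules.pullback i).obj (Twist.twistProjSpace N k 1) ≅ Twist.twistProjSpace m k 1)) :
    ∃ σ : Γ(Twist.twistProjSpace N k 1, ⊤), σ ≠ 0 ∧
      ((Scheme.Modules.pullbackPushforwardAdjunction i).unit.app (Twist.twistProjSpace N k 1)).app ⊤ σ = 0 := by
  let O1 := Twist.twistProjSpace N k 1
  obtain ⟨e⟩ := hO
  haveI : ((Scheme.Modules.pullback i).obj O1).IsQuasicoherent := InvExt.isQuasicoherent_of_isInvertible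
    (RelProjK.isInvertible_pullback i (CMReg.isInvertible_twist (n := N) (k := k) 1))
  obtain ⟨q⟩ := Snapper.nonempty_HH_linearEquiv_pushforward (A := k) i hi ((Scheme.Modules.pullback i).obj O1) 0
  obtain ⟨hf1, hr1⟩ := CI20.finrank_H0 (k := k) m hm 1
  obtain ⟨hfN, hrN⟩ := CI20.finrank_H0 (k := k) N (by omega) 1
  haveI := hfN
  haveI := hf1
  let η : O1 ⟶ (Scheme.Modules.pushforward i).obj ((Scheme.Modules.pullback i).obj O1) :=
    (Scheme.Modules.pullbackPushforwardAdjunction i).unit.app O1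
  let f := hhMap k η 0
  let q' := q.symm.trans (Euler.hhEquiv (A := k) e 0)
  have hlt : Module.finrank k (Coh.HH (CohB1.ProjSpace m k) (Twist.twistProjSpace m k 1) 0) <
      Module.finrank k (Coh.HH (CohB1.ProjSpace N k) O1 0) := by
    rw [hr1, hrN, show ((1 : ℤ) + (m : ℤ)).toNat = m + 1 by omega, show ((1 : ℤ) + (N : ℤ)).toNat = N + 1 by omega,
      Nat.choose_succ_self_right, Nat.choose_succ_self_right]
    omega
  obtain ⟨x, hx, hx0⟩ := (Submodule.ne_bot_iff _).1 (LinearMap.ker_ne_bot_of_finrank_lt (f := q'.toLinearMap ∘ₗ f) hlt)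
  refine ⟨ProjCoh.H0top O1 x, fun h => hx0 ((ProjCoh.H0top O1).injective (h.trans (map_zero _).symm)), ?_⟩
  show η.app ⊤ _ = 0
  rw [← NegTwist.H0top_hhMap k]
  have h0 : f x = 0 := q'.injective ((LinearMap.mem_ker.1 hx).trans (map_zero _).symm)
  exact (congrArg _ h0).trans (map_zero _)

/-- The zero scheme of a section dying on `i` contains the image. -/
theorem zeroScheme_le_ker {X Y : Scheme.{u}} (i : Y ⟶ X) [QuasiCompact i] {L : X.Modules} (hL : PicF.IsInvertible L)
    (σ : Γ(L, ⊤)) (h : ((Scheme.Modules.pullbackPushforwardAdjunction i).unit.app L).app ⊤ σ = 0) :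
    PicF2.zeroScheme L (FinCov.homOfSection σ) ≤ i.ker := by
  intro U a ha
  rw [Scheme.Hom.ker_apply, RingHom.mem_ker]
  let η : L ⟶ (Scheme.Modules.pushforward i).obj ((Scheme.Modules.pullback i).obj L) :=
    (Scheme.Modules.pullbackPushforwardAdjunction i).unit.app L
  have hex : ∀ y : (i ⁻¹ᵁ U.1 : Y.Opens), ∃ V : X.affineOpens, i y.1 ∈ V.1 ∧ V.1 ≤ U.1 ∧ ∃ e, IsGen L V.1 e := fun y => by
    obtain ⟨D, e, hD, he⟩ := InvExt.exists_gen_nhd hL (i y.1)
    obtain ⟨W, hW, hyW, hle⟩ := exists_isAffineOpen_mem_and_subset (x := i y.1) (U := U.1 ⊓ D) ⟨y.2, hD⟩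
    exact ⟨⟨W, hW⟩, hyW, hle.trans inf_le_left, _, he.restrict (hle.trans inf_le_right)⟩
  choose V hyV hVU e he using hex
  refine TopCat.Sheaf.eq_of_locally_eq' Y.sheaf (fun y => i ⁻¹ᵁ (V y).1) (i ⁻¹ᵁ U.1)
    (fun y => homOfLE (i.preimage_mono (hVU y)))
    (fun y hy => Opens.mem_iSup.mpr ⟨⟨y, hy⟩, hyV ⟨y, hy⟩⟩) _ 0 fun y => ?_
  rw [map_zero]
  let a' : Γ(X, (V y).1) := InvExt.fres X (hVU y) a
  have ha' : a' ∈ (PicF2.zeroScheme L (FinCov.homOfSection σ)).ideal (V y) := by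
    rw [← (PicF2.zeroScheme L (FinCov.homOfSection σ)).map_ideal (show V y ≤ U from hVU y)]
    exact Ideal.mem_map_of_mem _ ha
  rw [Jets.zeroScheme_ideal hL] at ha'
  obtain ⟨b, hb⟩ := ha' (e y)
  have hs : (show Γ(L, (V y).1) from PicF2.secVal L (FinCov.homOfSection σ) (V y).1) = mres L le_top σ :=
    FinCov.homOfSection_one σ (V y).1
  change a' • e y = (show Γ(X, (V y).1) from b) • (show Γ(L, (V y).1) from PicF2.secVal L _ (V y).1) at hb
  rw [hs] at hb
  have h0 : (i.app (V y).1 a') • (show Γ((Scheme.Modules.pullback i).obj L, i ⁻¹ᵁ (V y).1) from η.app (V y).1 (e y)) = 0 := by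
    refine (Ample.app_smul η a' (e y)).symm.trans ?_
    rw [hb, Ample.app_smul, Ample.app_mres η (le_top : (V y).1 ≤ ⊤) σ, show η.app ⊤ σ = 0 from h]
    refine (congrArg _ (map_zero _)).trans (smul_zero _)
  show Y.presheaf.map _ (i.app U.1 a) = 0
  rw [show Y.presheaf.map (homOfLE (i.preimage_mono (hVU y))).op (i.app U.1 a) = i.app (V y).1 a' from
    (ConcreteCategory.congr_hom (i.naturality (homOfLE (hVU y)).op) a).symm]
  refine (VA.isGen_unit i hL (he y)).smul_left_injective le_rfl ?_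
  rw [zero_smul, InvExt.mres_self]
  exact h0

/-- A hyperplane through a linear subspace. -/
theorem exists_hyperplane_through {m n : ℕ} (hm : 1 ≤ m) (hn : m ≤ n) (i : CohB1.ProjSpace m k ⟶ CohB1.ProjSpace (n + 1) k)
    [IsClosedImmersion i] (hi : i ≫ CohB1.ProjSpace.toSpec (n + 1) k = CohB1.ProjSpace.toSpec m k)
    (hO : Nonempty ((Scheme.Modules.pullback i).obj (Twist.twistProjSpace (n + 1) k 1) ≅ Twist.twistProjSpace m k 1)) :
    ∃ (j : CohB1.ProjSpace n k ⟶ CohB1.ProjSpace (n + 1) k) (_ : IsClosedImmersion j)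
      (K : (CohB1.ProjSpace (n + 1) k).Modules) (ι : K ⟶ Coh.structureModule (CohB1.ProjSpace (n + 1) k))
      (w : ι ≫ ClSub.unitToPush j = 0),
      (ShortComplex.mk ι (ClSub.unitToPush j) w).ShortExact ∧
      Nonempty (K ≅ Twist.twistProjSpace (n + 1) k (-1)) ∧
      j ≫ CohB1.ProjSpace.toSpec (n + 1) k = CohB1.ProjSpace.toSpec n k ∧
      Nonempty ((Scheme.Modules.pullback j).obj (Twist.twistProjSpace (n + 1) k 1) ≅ Twist.twistProjSpace n k 1) ∧
      ∃ (i' : CohB1.ProjSpace m k ⟶ CohB1.ProjSpace n k), IsClosedImmersion i' ∧ i' ≫ j = i := by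
  classical
  obtain ⟨σ, hσ, hσi⟩ := exists_section hm (by omega) i hi hO
  haveI := Chow.isProper_toSpec (n + 1) k
  haveI : IsNoetherian (CohB1.ProjSpace (n + 1) k) := Euler.isNoetherian_of_proper (X := CohB1.ProjSpace (n + 1) k) k
  haveI : IsNoetherian (Proj (CohB1.polyGrading (n + 1) k)) :=
    inferInstanceAs (IsNoetherian (CohB1.ProjSpace (n + 1) k))
  let A := CohB1.polyGrading (n + 1) k
  let x : ULift.{u} (Fin (n + 1 + 1)) → MvPolynomial (Fin (n + 1 + 1)) k := fun i => MvPolynomial.X i.down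
  have hx : ∀ i, x i ∈ A 1 := fun i => MvPolynomial.isHomogeneous_X k i.down
  have hcov : ⨆ i, Proj.basicOpen A (x i) = ⊤ := eq_top_iff.mpr fun p _ => by
    obtain ⟨i, hi⟩ := Opens.mem_iSup.mp ((Ample.ProjMap.iSup_basicOpen_X (n + 1) k).ge (Opens.mem_top p))
    exact Opens.mem_iSup.mpr ⟨⟨i⟩, hi⟩
  let s := FinCov.homOfSection σ
  have hsec : (show Γ(Twist.twistProjSpace (n + 1) k 1, ⊤) from
      PicF2.secVal (Twist.twistProjSpace (n + 1) k 1) s ⊤) = σ :=
    (FinCov.homOfSection_one σ ⊤).trans (InvExt.mres_self _ σ)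
  obtain ⟨l, hl, hsl⟩ := Hyperplane.exists_eq_gsec (d := 1)
    (show Γ(Twist.twist A ((1 : ℕ) : ℤ), ⊤) from PicF2.secVal (Twist.twistProjSpace (n + 1) k 1) s ⊤)
  have hl0 : l ≠ 0 := by
    intro h0
    apply hσ
    rw [← hsec]
    have : s = 0 := by
      apply Scheme.Modules.hom_ext
      intro W
      ext r
      refine Ample.ProjTwist.evT_ext fun y => ?_
      refine (Hyperplane.evT_app (𝒜 := A) hl s hsl W r y).trans ?_
      rw [h0, map_zero, mul_zero]
      rfl
    rw [this]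
    rfl
  obtain ⟨ψ, hψs, hker, hψC⟩ := Groth.Agent.S7676.exists_projection k n l hl hl0
  have hψ := Groth.Agent.S7676.irrelevant_le_map A (CohB1.polyGrading n k) ψ hψs
  haveI hjc : IsClosedImmersion (Proj.map ψ hψ) := GradedAlg.isClosedImmersion_map ψ hψ hψs
  let j : CohB1.ProjSpace n k ⟶ CohB1.ProjSpace (n + 1) k := Proj.map ψ hψ
  haveI : IsClosedImmersion j := hjc
  have hL := Ample.ProjTwist.isInvertible_twist A x hx hcov 1
  let s' : Coh.structureModule (Proj A) ⟶ Twist.twist A ((1 : ℕ) : ℤ) := s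
  haveI : Mono s' := Hyperplane.mono_of_ne_zero hl s hsl hl0
  have he : j.ker = PicF2.zeroScheme (Twist.twistProjSpace (n + 1) k 1) s :=
    Hyperplane.ker_map_eq_zeroScheme hl s' hsl ψ hψ hL hker x hx hcov
  let G : LefPen.Form (n + 1) k 1 := ⟨l, hl⟩
  have hG : G ≠ 0 := fun h => hl0 (congrArg Subtype.val h)
  have hH : j.ker = LefPen.hypIdeal G := by
    rw [he]
    refine Scheme.IdealSheafData.ext_of_iSup_eq_top
      (fun i => GradedAlg.dPlus A (x i) (hx i) one_pos) hcov fun i => ?_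
    have h1 : (PicF2.zeroScheme (Twist.twistProjSpace (n + 1) k 1) s).ideal (GradedAlg.dPlus A (x i) (hx i) one_pos) = _ :=
      (Hyperplane.zeroScheme_ideal hL s' _).trans (Hyperplane.zeroIdealOn_basicOpen hl s' hsl (hx i))
    rw [h1, HypSurf.hypIdeal_ideal_eq G (GradedAlg.dPlus A (x i) (hx i) one_pos) i.down le_rfl, Ample.res_self]
    rfl
  obtain ⟨w, hS⟩ := CI20.exists_ses j (LefPen.hypIdeal G) hH
  obtain ⟨eK⟩ := CI20.nonempty_idealMod_hyp G hG
  have hle : j.ker ≤ i.ker := he ▸ zeroScheme_le_ker i (CMReg.isInvertible_twist (n := n + 1) (k := k) 1) σ hσi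
  let i' := IsClosedImmersion.lift j i hle
  have hfac : i' ≫ j = i := IsClosedImmersion.lift_fac _ _ _
  refine ⟨j, inferInstance, _, _, w, hS, ⟨eK⟩, ?_, Hyperplane.nonempty_pullback_twist_one ψ hψ x hx hcov, i', ?_, hfac⟩
  · show Proj.map ψ hψ ≫ Proj.toSpecZero A ≫ _ = Proj.toSpecZero _ ≫ _
    rw [← Category.assoc, RelProjK.map_toSpecZero, Category.assoc, ← Spec.map_comp]
    congr 2
    refine CommRingCat.hom_ext (RingHom.ext fun b => Subtype.ext ?_)
    show ψ (MvPolynomial.C b) = MvPolynomial.C b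
    exact hψC b
  · haveI : IsClosedImmersion (i' ≫ j) := hfac ▸ inferInstance
    exact IsClosedImmersion.of_comp i' j

end GrothLib.LineFlag12
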