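import Groth.Agent.Lib.LineFlag12.H0
import Groth.Agent.S2928
import Groth.Agent.Lib.GrNoeth9.Vanish
import Groth.Agent.Lib.CodimExt27.Basic

/-!
# Bundles which split on a plane split
-/

set_option autoImplicit false
set_option linter.all false
set_option maxHeartbeats 1000000
set_option backward.isDefEq.respectTransparency false

universe u

open CategoryTheory CategoryTheory.Limits AlgebraicGeometry TopologicalSpace Opposite
open GrothLib.CMReg (Ft)
open GrothLib.ASBun21

noncomputable section

namespace GrothLib.LineFlag12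

variable {k : Type u} [Field k]

/-- The intermediate cohomology of a bundle dies in very negative degrees. -/
theorem exists_vanish_low {N r : ℕ} {E : (CohB1.ProjSpace N k).Modules} (hE : FlatMod.IsFinLocFreeOfRank r E)
    (hN : 1 ≤ N) :
    ∃ P : ℤ, ∀ d : ℤ, d ≤ P → ∀ q : ℕ, q < N → Subsingleton (Coh.HH (CohB1.ProjSpace N k) (Ft E d) q) := by
  have hEl := FinCov.isFinLocFree_of_rank hE
  haveI := ProjDim.locallyOfFiniteType_toSpec k N
  obtain ⟨m₀, hm⟩ := (Groth.Agent.S2928.result k N E (Euler.isCoh_of_isFinLocFree hEl) (N - 1)).2 fun x hx => by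
    have h := CodimExt27.le_depth_stalk_of_finLocFree (CohB1.ProjSpace.toSpec N k) (DualTF27.pure_projSpace k N)
      (DualTF27.isRegular_projSpace k N) hEl x (q := N) (by rw [AffDom.ptDim_closedPoint hx, zero_add])
    refine lt_of_lt_of_le ?_ h
    exact_mod_cast (show N - 1 < N by omega)
  refine ⟨-m₀, fun d hd q hq => ?_⟩
  have h := hm (-d) (by omega) q (by omega)
  rw [neg_neg] at h
  exact h

/-- Higher cohomology dies in very positive degrees. -/
theorem exists_vanish_high {N : ℕ} {F : (CohB1.ProjSpace N k).Modules} (hF : Coh.IsCoh F) {q : ℕ} (hq : 0 < q) :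
    ∃ d₀ : ℤ, ∀ d : ℤ, d₀ ≤ d → Subsingleton (Coh.HH (CohB1.ProjSpace N k) (Ft F d) q) :=
  GrNoeth9.exists_vanish (R := k) (𝒜 := CohB1.polyGrading N k) hF hq

/-- A bundle splitting on a linearly embedded plane splits. -/
theorem exists_split_of_plane : ∀ (N : ℕ) (r : ℕ) (E : (CohB1.ProjSpace N k).Modules), FlatMod.IsFinLocFreeOfRank r E →
    ∀ (i : CohB1.ProjSpace 2 k ⟶ CohB1.ProjSpace N k), IsClosedImmersion i →
    i ≫ CohB1.ProjSpace.toSpec N k = CohB1.ProjSpace.toSpec 2 k →
    Nonempty ((Scheme.Modules.pullback i).obj (Twist.twistProjSpace N k 1) ≅ Twist.twistProjSpace 2 k 1) →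
    (∃ a : Fin r → ℤ, Nonempty ((Scheme.Modules.pullback i).obj E ≅ Horrocks.split 2 k a)) →
    ∃ b : Fin r → ℤ, Nonempty (E ≅ Horrocks.split N k b) := by
  intro N
  induction N with
  | zero =>
    intro r E _ i hic _ _ _
    exfalso
    haveI := hic
    have h := (i.isClosedEmbedding.isInducing).topologicalKrullDim_le
    rw [dim_projSpace, dim_projSpace] at h
    exact absurd (by exact_mod_cast h : (2 : ℕ) ≤ 0) (by omega)
  | succ n ih =>
    intro r E hE i hic hi hO hsplit
    haveI := hic
    have h2n : 2 ≤ n + 1 := by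
      have h := (i.isClosedEmbedding.isInducing).topologicalKrullDim_le
      rw [dim_projSpace, dim_projSpace] at h
      exact_mod_cast h
    rcases eq_or_lt_of_le h2n with hn | hn
    · obtain rfl : n = 1 := by omega
      haveI : IsIntegral (CohB1.ProjSpace (1 + 1) k) := ProjDim.isIntegral_proj k (1 + 1)
      let Z : Set ↥(CohB1.ProjSpace (1 + 1) k) := Set.range i
      have hdZ : topologicalKrullDim Z = ((2 : ℕ) : WithBot ℕ∞) := by
        rw [← (i.isClosedEmbedding.isEmbedding.toHomeomorph).isHomeomorph.topologicalKrullDim_eq, dim_projSpace]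
      have hZ : Z = Set.univ := Dim.eq_univ_of_dim_le i.isClosedEmbedding.isClosed_range
        (by rw [hdZ, dim_projSpace]) hdZ
      haveI : Surjective i := ⟨fun y => (hZ ▸ Set.mem_univ y : y ∈ Z)⟩
      haveI : IsIso i := isIso_of_isClosedImmersion_of_surjective i
      obtain ⟨a, ⟨et⟩⟩ := hsplit
      let back : ∀ M, (Scheme.Modules.pullback (inv i)).obj ((Scheme.Modules.pullback i).obj M) ≅ M := fun M =>
        (Scheme.Modules.pullbackComp (inv i) i).app M ≪≫ (Scheme.Modules.pullbackCongr (IsIso.inv_hom_id i)).app M ≪≫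
          (Scheme.Modules.pullbackId _).app M
      have hO' : Nonempty ((Scheme.Modules.pullback (inv i)).obj (Twist.twistProjSpace 2 k 1) ≅
          Twist.twistProjSpace (1 + 1) k 1) :=
        ⟨(Scheme.Modules.pullback (inv i)).mapIso hO.some.symm ≪≫ back _⟩
      exact ⟨a, ⟨(back E).symm ≪≫ (Scheme.Modules.pullback (inv i)).mapIso et ≪≫
        PreservesCoproduct.iso (Scheme.Modules.pullback (inv i)) _ ≪≫
        Sigma.mapIso fun l => (CMReg.nonempty_pullback_twist hO' (a l)).some⟩⟩
    obtain ⟨j, hjc, K, ι, w, hS, ⟨eK⟩, hj, hej, i', hi'c, hfac⟩ :=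
      exists_hyperplane_through (m := 2) (by omega) (show 2 ≤ n by omega) i hi hO
    haveI := hjc
    have hi' : i' ≫ CohB1.ProjSpace.toSpec n k = CohB1.ProjSpace.toSpec 2 k := by
      rw [← hj, ← Category.assoc, hfac, hi]
    let pc : ∀ M, (Scheme.Modules.pullback i').obj ((Scheme.Modules.pullback j).obj M) ≅
        (Scheme.Modules.pullback i).obj M := fun M =>
      (Scheme.Modules.pullbackComp i' j).app M ≪≫ (Scheme.Modules.pullbackCongr hfac).app M
    have hO' : Nonempty ((Scheme.Modules.pullback i').obj (Twist.twistProjSpace n k 1) ≅ Twist.twistProjSpace 2 k 1) :=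
      ⟨(Scheme.Modules.pullback i').mapIso hej.some.symm ≪≫ pc _ ≪≫ hO.some⟩
    have hE' := OX.isFinLocFreeOfRank_pullback j hE
    obtain ⟨b, ⟨eH⟩⟩ := ih r _ hE' i' hi'c hi' hO' ⟨hsplit.choose, ⟨pc E ≪≫ hsplit.choose_spec.some⟩⟩
    have hH : ∀ (q : ℕ) (d : ℤ), 0 < q → q < n →
        Subsingleton (Coh.HH (CohB1.ProjSpace n k) (Ft ((Scheme.Modules.pullback j).obj E) d) q) := fun q d h1 h2 =>
      CMReg.subsingleton_of_iso ((CMReg.ftFun d).mapIso eH).symm (Horrocks.subsingleton_split b d h1 h2)
    have hEl := FinCov.isFinLocFree_of_rank hE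
    let S := fun d => HorrocksGen.twSeq j ι w E (Twist.twistProjSpace (n + 1) k d)
    have hSd : ∀ d, (S d).ShortExact := fun d =>
      HorrocksGen.twSeq_shortExact j ι w hS hEl (Horrocks.locFree_twist d)
    let g : ∀ d, CohB1.tensorMod K (Twist.twistProjSpace (n + 1) k d) ≅ Twist.twistProjSpace (n + 1) k (d - 1) :=
      fun d => Ample.LineData.tensorModMapIso eK (Iso.refl _) ≪≫ Horrocks.downIso (n + 1) k d
    have h3 : ∀ (q : ℕ) (d : ℤ), 0 < q → q < n → Subsingleton (Coh.HH _ (S d).X₃ q) := fun q d h1 h2 => by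
      obtain ⟨gY⟩ := CMReg.nonempty_pullback_twist hej d
      obtain ⟨e3⟩ := HorrocksGen.nonempty_thirdTerm j ι w hEl (Horrocks.locFree_twist d) gY
      let F := CohB1.tensorMod ((Scheme.Modules.pullback j).obj E) (Twist.twistProjSpace n k d)
      haveI : F.IsQuasicoherent := (CMReg.isCoh_Ft (Euler.isCoh_of_isFinLocFree (FinCov.isFinLocFree_of_rank hE')) d).1
      obtain ⟨e⟩ := Cohom.nonempty_HH_equiv_pushforward j F q
      haveI : Subsingleton (Coh.HH (CohB1.ProjSpace n k) F q) := hH q d h1 h2
      exact CMReg.subsingleton_of_iso e3.symm e.symm.toEquiv.subsingleton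
    have e1 : ∀ d, (S d).X₁ ≅ Ft E (d - 1) := fun d => HorrocksGen.firstTerm j ι w E _ _ (g d)
    have e2 : ∀ d, (S d).X₂ ≅ Ft E d := fun d => HorrocksGen.secondTerm j ι w E (Twist.twistProjSpace (n + 1) k d)
    refine Horrocks.exists_split (n + 1) (by omega) r E hE fun q d hq hqn => ?_
    rcases lt_or_eq_of_le (show q ≤ n by omega) with hlt | rfl
    · obtain ⟨P, hP⟩ := exists_vanish_low hE (by omega)
      have main : ∀ (m : ℕ) (e : ℤ), e ≤ P + m → Subsingleton (Coh.HH (CohB1.ProjSpace (n + 1) k) (Ft E e) q) := by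
        intro m
        induction m with
        | zero => intro e he; exact hP e (by simpa using he) q hqn
        | succ m ihm =>
          intro e he
          exact CMReg.subsingleton_of_iso (e2 e)
            (CMReg.subsingleton_X₂ (hSd e)
              (CMReg.subsingleton_of_iso (e1 e).symm (ihm (e - 1) (by push_cast at he ⊢; omega))) (h3 q e hq hlt))
      exact main (d - P).toNat d (by omega)
    · obtain ⟨D, hD⟩ := exists_vanish_high (Euler.isCoh_of_isFinLocFree hEl) hq
      have main : ∀ (m : ℕ) (e : ℤ), D ≤ e + m → Subsingleton (Coh.HH (CohB1.ProjSpace (q + 1) k) (Ft E e) q) := by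
        intro m
        induction m with
        | zero => intro e he; exact hD e (by simpa using he)
        | succ m ihm =>
          intro e he
          obtain ⟨p, rfl⟩ : ∃ p, q = p + 1 := ⟨q - 1, by omega⟩
          have h1 := CMReg.subsingleton_X₁_succ (hSd (e + 1)) (h3 p (e + 1) (by omega) (by omega))
            (CMReg.subsingleton_of_iso (e2 (e + 1)).symm (ihm (e + 1) (by push_cast at he ⊢; omega)))
          have := CMReg.subsingleton_of_iso (e1 (e + 1)) h1
          rwa [show e + 1 - 1 = e by ring] at this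
      exact main (D - d).toNat d (by omega)

end GrothLib.LineFlag12
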